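import Cfsg.Agent.AN.Mod.LM0D

set_option autoImplicit false
set_option Elab.async false
set_option maxRecDepth 100000
set_option exponentiation.threshold 400000

namespace Cfsg.Agent.AN.LM0

open Cfsg.Agent.H58

theorem e1_0 : eqsAt nets 131072 17 pairs1 0 = 0 := by decide +kernel
theorem e1_1 : eqsAt nets 131072 17 pairs1 1 = 0 := by decide +kernel
theorem e1_2 : eqsAt nets 131072 17 pairs1 2 = 0 := by decide +kernel
theorem e1_3 : eqsAt nets 131072 17 pairs1 3 = 0 := by decide +kernel
theorem e1_4 : eqsAt nets 131072 17 pairs1 4 = 0 := by decide +kernel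
theorem e1_5 : eqsAt nets 131072 17 pairs1 5 = 0 := by decide +kernel
theorem e1_6 : eqsAt nets 131072 17 pairs1 6 = 0 := by decide +kernel
theorem e1_7 : eqsAt nets 131072 17 pairs1 7 = 0 := by decide +kernel
theorem e1_8 : eqsAt nets 131072 17 pairs1 8 = 0 := by decide +kernel
theorem e1_9 : eqsAt nets 131072 17 pairs1 9 = 0 := by decide +kernel
theorem e1_10 : eqsAt nets 131072 17 pairs1 10 = 0 := by decide +kernel
theorem e1_11 : eqsAt nets 131072 17 pairs1 11 = 0 := by decide +kernel
theorem e1_12 : eqsAt nets 131072 17 pairs1 12 = 0 := by decide +kernel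
theorem e1_13 : eqsAt nets 131072 17 pairs1 13 = 0 := by decide +kernel
theorem e1_14 : eqsAt nets 131072 17 pairs1 14 = 0 := by decide +kernel
theorem e1_15 : eqsAt nets 131072 17 pairs1 15 = 0 := by decide +kernel
theorem e1_16 : eqsAt nets 131072 17 pairs1 16 = 0 := by decide +kernel
theorem eq1 : ∀ p ∈ pairs1, (p.1.map (elN nets)).prod = (p.2.map (elN nets)).prod :=
  eqs_sound netsOK (by decide) (blocks_cons (blocks_cons (blocks_cons (blocks_cons (blocks_cons (blocks_cons (blocks_cons (blocks_cons (blocks_cons (blocks_cons (blocks_cons (blocks_cons (blocks_cons (blocks_cons (blocks_cons (blocks_cons (blocks_cons (blocks_nil _) e1_0) e1_1) e1_2) e1_3) e1_4) e1_5) e1_6) e1_7) e1_8) e1_9) e1_10) e1_11) e1_12) e1_13) e1_14) e1_15) e1_16)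
theorem e5_0 : eqsAt nets 131072 17 pairs5 0 = 0 := by decide +kernel
theorem e5_1 : eqsAt nets 131072 17 pairs5 1 = 0 := by decide +kernel
theorem e5_2 : eqsAt nets 131072 17 pairs5 2 = 0 := by decide +kernel
theorem e5_3 : eqsAt nets 131072 17 pairs5 3 = 0 := by decide +kernel
theorem e5_4 : eqsAt nets 131072 17 pairs5 4 = 0 := by decide +kernel
theorem e5_5 : eqsAt nets 131072 17 pairs5 5 = 0 := by decide +kernel
theorem e5_6 : eqsAt nets 131072 17 pairs5 6 = 0 := by decide +kernel
theorem e5_7 : eqsAt nets 131072 17 pairs5 7 = 0 := by decide +kernel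
theorem e5_8 : eqsAt nets 131072 17 pairs5 8 = 0 := by decide +kernel
theorem e5_9 : eqsAt nets 131072 17 pairs5 9 = 0 := by decide +kernel
theorem e5_10 : eqsAt nets 131072 17 pairs5 10 = 0 := by decide +kernel
theorem e5_11 : eqsAt nets 131072 17 pairs5 11 = 0 := by decide +kernel
theorem e5_12 : eqsAt nets 131072 17 pairs5 12 = 0 := by decide +kernel
theorem e5_13 : eqsAt nets 131072 17 pairs5 13 = 0 := by decide +kernel
theorem e5_14 : eqsAt nets 131072 17 pairs5 14 = 0 := by decide +kernel
theorem e5_15 : eqsAt nets 131072 17 pairs5 15 = 0 := by decide +kernel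
theorem e5_16 : eqsAt nets 131072 17 pairs5 16 = 0 := by decide +kernel
theorem eq5 : ∀ p ∈ pairs5, (p.1.map (elN nets)).prod = (p.2.map (elN nets)).prod :=
  eqs_sound netsOK (by decide) (blocks_cons (blocks_cons (blocks_cons (blocks_cons (blocks_cons (blocks_cons (blocks_cons (blocks_cons (blocks_cons (blocks_cons (blocks_cons (blocks_cons (blocks_cons (blocks_cons (blocks_cons (blocks_cons (blocks_cons (blocks_nil _) e5_0) e5_1) e5_2) e5_3) e5_4) e5_5) e5_6) e5_7) e5_8) e5_9) e5_10) e5_11) e5_12) e5_13) e5_14) e5_15) e5_16)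
theorem e9_0 : eqsAt nets 131072 17 pairs9 0 = 0 := by decide +kernel
theorem e9_1 : eqsAt nets 131072 17 pairs9 1 = 0 := by decide +kernel
theorem e9_2 : eqsAt nets 131072 17 pairs9 2 = 0 := by decide +kernel
theorem e9_3 : eqsAt nets 131072 17 pairs9 3 = 0 := by decide +kernel
theorem e9_4 : eqsAt nets 131072 17 pairs9 4 = 0 := by decide +kernel
theorem e9_5 : eqsAt nets 131072 17 pairs9 5 = 0 := by decide +kernel
theorem e9_6 : eqsAt nets 131072 17 pairs9 6 = 0 := by decide +kernel
theorem e9_7 : eqsAt nets 131072 17 pairs9 7 = 0 := by decide +kernel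
theorem e9_8 : eqsAt nets 131072 17 pairs9 8 = 0 := by decide +kernel
theorem e9_9 : eqsAt nets 131072 17 pairs9 9 = 0 := by decide +kernel
theorem e9_10 : eqsAt nets 131072 17 pairs9 10 = 0 := by decide +kernel
theorem e9_11 : eqsAt nets 131072 17 pairs9 11 = 0 := by decide +kernel
theorem e9_12 : eqsAt nets 131072 17 pairs9 12 = 0 := by decide +kernel
theorem e9_13 : eqsAt nets 131072 17 pairs9 13 = 0 := by decide +kernel
theorem e9_14 : eqsAt nets 131072 17 pairs9 14 = 0 := by decide +kernel
theorem e9_15 : eqsAt nets 131072 17 pairs9 15 = 0 := by decide +kernel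
theorem e9_16 : eqsAt nets 131072 17 pairs9 16 = 0 := by decide +kernel
theorem eq9 : ∀ p ∈ pairs9, (p.1.map (elN nets)).prod = (p.2.map (elN nets)).prod :=
  eqs_sound netsOK (by decide) (blocks_cons (blocks_cons (blocks_cons (blocks_cons (blocks_cons (blocks_cons (blocks_cons (blocks_cons (blocks_cons (blocks_cons (blocks_cons (blocks_cons (blocks_cons (blocks_cons (blocks_cons (blocks_cons (blocks_cons (blocks_nil _) e9_0) e9_1) e9_2) e9_3) e9_4) e9_5) e9_6) e9_7) e9_8) e9_9) e9_10) e9_11) e9_12) e9_13) e9_14) e9_15) e9_16)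
theorem e13_0 : eqsAt nets 131072 17 pairs13 0 = 0 := by decide +kernel
theorem e13_1 : eqsAt nets 131072 17 pairs13 1 = 0 := by decide +kernel
theorem e13_2 : eqsAt nets 131072 17 pairs13 2 = 0 := by decide +kernel
theorem e13_3 : eqsAt nets 131072 17 pairs13 3 = 0 := by decide +kernel
theorem e13_4 : eqsAt nets 131072 17 pairs13 4 = 0 := by decide +kernel
theorem e13_5 : eqsAt nets 131072 17 pairs13 5 = 0 := by decide +kernel
theorem e13_6 : eqsAt nets 131072 17 pairs13 6 = 0 := by decide +kernel
theorem e13_7 : eqsAt nets 131072 17 pairs13 7 = 0 := by decide +kernel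
theorem e13_8 : eqsAt nets 131072 17 pairs13 8 = 0 := by decide +kernel
theorem e13_9 : eqsAt nets 131072 17 pairs13 9 = 0 := by decide +kernel
theorem e13_10 : eqsAt nets 131072 17 pairs13 10 = 0 := by decide +kernel
theorem e13_11 : eqsAt nets 131072 17 pairs13 11 = 0 := by decide +kernel
theorem e13_12 : eqsAt nets 131072 17 pairs13 12 = 0 := by decide +kernel
theorem e13_13 : eqsAt nets 131072 17 pairs13 13 = 0 := by decide +kernel
theorem e13_14 : eqsAt nets 131072 17 pairs13 14 = 0 := by decide +kernel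
theorem e13_15 : eqsAt nets 131072 17 pairs13 15 = 0 := by decide +kernel
theorem e13_16 : eqsAt nets 131072 17 pairs13 16 = 0 := by decide +kernel
theorem eq13 : ∀ p ∈ pairs13, (p.1.map (elN nets)).prod = (p.2.map (elN nets)).prod :=
  eqs_sound netsOK (by decide) (blocks_cons (blocks_cons (blocks_cons (blocks_cons (blocks_cons (blocks_cons (blocks_cons (blocks_cons (blocks_cons (blocks_cons (blocks_cons (blocks_cons (blocks_cons (blocks_cons (blocks_cons (blocks_cons (blocks_cons (blocks_nil _) e13_0) e13_1) e13_2) e13_3) e13_4) e13_5) e13_6) e13_7) e13_8) e13_9) e13_10) e13_11) e13_12) e13_13) e13_14) e13_15) e13_16)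
theorem e17_0 : eqsAt nets 131072 17 pairs17 0 = 0 := by decide +kernel
theorem e17_1 : eqsAt nets 131072 17 pairs17 1 = 0 := by decide +kernel
theorem e17_2 : eqsAt nets 131072 17 pairs17 2 = 0 := by decide +kernel
theorem e17_3 : eqsAt nets 131072 17 pairs17 3 = 0 := by decide +kernel
theorem e17_4 : eqsAt nets 131072 17 pairs17 4 = 0 := by decide +kernel
theorem e17_5 : eqsAt nets 131072 17 pairs17 5 = 0 := by decide +kernel
theorem e17_6 : eqsAt nets 131072 17 pairs17 6 = 0 := by decide +kernel
theorem e17_7 : eqsAt nets 131072 17 pairs17 7 = 0 := by decide +kernel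
theorem e17_8 : eqsAt nets 131072 17 pairs17 8 = 0 := by decide +kernel
theorem e17_9 : eqsAt nets 131072 17 pairs17 9 = 0 := by decide +kernel
theorem e17_10 : eqsAt nets 131072 17 pairs17 10 = 0 := by decide +kernel
theorem e17_11 : eqsAt nets 131072 17 pairs17 11 = 0 := by decide +kernel
theorem e17_12 : eqsAt nets 131072 17 pairs17 12 = 0 := by decide +kernel
theorem e17_13 : eqsAt nets 131072 17 pairs17 13 = 0 := by decide +kernel
theorem e17_14 : eqsAt nets 131072 17 pairs17 14 = 0 := by decide +kernel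
theorem e17_15 : eqsAt nets 131072 17 pairs17 15 = 0 := by decide +kernel
theorem e17_16 : eqsAt nets 131072 17 pairs17 16 = 0 := by decide +kernel
theorem eq17 : ∀ p ∈ pairs17, (p.1.map (elN nets)).prod = (p.2.map (elN nets)).prod :=
  eqs_sound netsOK (by decide) (blocks_cons (blocks_cons (blocks_cons (blocks_cons (blocks_cons (blocks_cons (blocks_cons (blocks_cons (blocks_cons (blocks_cons (blocks_cons (blocks_cons (blocks_cons (blocks_cons (blocks_cons (blocks_cons (blocks_cons (blocks_nil _) e17_0) e17_1) e17_2) e17_3) e17_4) e17_5) e17_6) e17_7) e17_8) e17_9) e17_10) e17_11) e17_12) e17_13) e17_14) e17_15) e17_16)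
theorem e21_0 : eqsAt nets 131072 17 pairs21 0 = 0 := by decide +kernel
theorem e21_1 : eqsAt nets 131072 17 pairs21 1 = 0 := by decide +kernel
theorem e21_2 : eqsAt nets 131072 17 pairs21 2 = 0 := by decide +kernel
theorem e21_3 : eqsAt nets 131072 17 pairs21 3 = 0 := by decide +kernel
theorem e21_4 : eqsAt nets 131072 17 pairs21 4 = 0 := by decide +kernel
theorem e21_5 : eqsAt nets 131072 17 pairs21 5 = 0 := by decide +kernel
theorem e21_6 : eqsAt nets 131072 17 pairs21 6 = 0 := by decide +kernel
theorem e21_7 : eqsAt nets 131072 17 pairs21 7 = 0 := by decide +kernel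
theorem e21_8 : eqsAt nets 131072 17 pairs21 8 = 0 := by decide +kernel
theorem e21_9 : eqsAt nets 131072 17 pairs21 9 = 0 := by decide +kernel
theorem e21_10 : eqsAt nets 131072 17 pairs21 10 = 0 := by decide +kernel
theorem e21_11 : eqsAt nets 131072 17 pairs21 11 = 0 := by decide +kernel
theorem e21_12 : eqsAt nets 131072 17 pairs21 12 = 0 := by decide +kernel
theorem e21_13 : eqsAt nets 131072 17 pairs21 13 = 0 := by decide +kernel
theorem e21_14 : eqsAt nets 131072 17 pairs21 14 = 0 := by decide +kernel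
theorem e21_15 : eqsAt nets 131072 17 pairs21 15 = 0 := by decide +kernel
theorem e21_16 : eqsAt nets 131072 17 pairs21 16 = 0 := by decide +kernel
theorem eq21 : ∀ p ∈ pairs21, (p.1.map (elN nets)).prod = (p.2.map (elN nets)).prod :=
  eqs_sound netsOK (by decide) (blocks_cons (blocks_cons (blocks_cons (blocks_cons (blocks_cons (blocks_cons (blocks_cons (blocks_cons (blocks_cons (blocks_cons (blocks_cons (blocks_cons (blocks_cons (blocks_cons (blocks_cons (blocks_cons (blocks_cons (blocks_nil _) e21_0) e21_1) e21_2) e21_3) e21_4) e21_5) e21_6) e21_7) e21_8) e21_9) e21_10) e21_11) e21_12) e21_13) e21_14) e21_15) e21_16)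
theorem e25_0 : eqsAt nets 131072 17 pairs25 0 = 0 := by decide +kernel
theorem e25_1 : eqsAt nets 131072 17 pairs25 1 = 0 := by decide +kernel
theorem e25_2 : eqsAt nets 131072 17 pairs25 2 = 0 := by decide +kernel
theorem e25_3 : eqsAt nets 131072 17 pairs25 3 = 0 := by decide +kernel
theorem e25_4 : eqsAt nets 131072 17 pairs25 4 = 0 := by decide +kernel
theorem e25_5 : eqsAt nets 131072 17 pairs25 5 = 0 := by decide +kernel
theorem e25_6 : eqsAt nets 131072 17 pairs25 6 = 0 := by decide +kernel
theorem e25_7 : eqsAt nets 131072 17 pairs25 7 = 0 := by decide +kernel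
theorem e25_8 : eqsAt nets 131072 17 pairs25 8 = 0 := by decide +kernel
theorem e25_9 : eqsAt nets 131072 17 pairs25 9 = 0 := by decide +kernel
theorem e25_10 : eqsAt nets 131072 17 pairs25 10 = 0 := by decide +kernel
theorem e25_11 : eqsAt nets 131072 17 pairs25 11 = 0 := by decide +kernel
theorem e25_12 : eqsAt nets 131072 17 pairs25 12 = 0 := by decide +kernel
theorem e25_13 : eqsAt nets 131072 17 pairs25 13 = 0 := by decide +kernel
theorem e25_14 : eqsAt nets 131072 17 pairs25 14 = 0 := by decide +kernel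
theorem e25_15 : eqsAt nets 131072 17 pairs25 15 = 0 := by decide +kernel
theorem e25_16 : eqsAt nets 131072 17 pairs25 16 = 0 := by decide +kernel
theorem eq25 : ∀ p ∈ pairs25, (p.1.map (elN nets)).prod = (p.2.map (elN nets)).prod :=
  eqs_sound netsOK (by decide) (blocks_cons (blocks_cons (blocks_cons (blocks_cons (blocks_cons (blocks_cons (blocks_cons (blocks_cons (blocks_cons (blocks_cons (blocks_cons (blocks_cons (blocks_cons (blocks_cons (blocks_cons (blocks_cons (blocks_cons (blocks_nil _) e25_0) e25_1) e25_2) e25_3) e25_4) e25_5) e25_6) e25_7) e25_8) e25_9) e25_10) e25_11) e25_12) e25_13) e25_14) e25_15) e25_16)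

end Cfsg.Agent.AN.LM0
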