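import Cfsg.Agent.AN.Mod.LM0D

set_option autoImplicit false
set_option Elab.async false
set_option maxRecDepth 100000
set_option exponentiation.threshold 400000

namespace Cfsg.Agent.AN.LM0

open Cfsg.Agent.H58

theorem e2_0 : eqsAt nets 131072 17 pairs2 0 = 0 := by decide +kernel
theorem e2_1 : eqsAt nets 131072 17 pairs2 1 = 0 := by decide +kernel
theorem e2_2 : eqsAt nets 131072 17 pairs2 2 = 0 := by decide +kernel
theorem e2_3 : eqsAt nets 131072 17 pairs2 3 = 0 := by decide +kernel
theorem e2_4 : eqsAt nets 131072 17 pairs2 4 = 0 := by decide +kernel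
theorem e2_5 : eqsAt nets 131072 17 pairs2 5 = 0 := by decide +kernel
theorem e2_6 : eqsAt nets 131072 17 pairs2 6 = 0 := by decide +kernel
theorem e2_7 : eqsAt nets 131072 17 pairs2 7 = 0 := by decide +kernel
theorem e2_8 : eqsAt nets 131072 17 pairs2 8 = 0 := by decide +kernel
theorem e2_9 : eqsAt nets 131072 17 pairs2 9 = 0 := by decide +kernel
theorem e2_10 : eqsAt nets 131072 17 pairs2 10 = 0 := by decide +kernel
theorem e2_11 : eqsAt nets 131072 17 pairs2 11 = 0 := by decide +kernel
theorem e2_12 : eqsAt nets 131072 17 pairs2 12 = 0 := by decide +kernel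
theorem e2_13 : eqsAt nets 131072 17 pairs2 13 = 0 := by decide +kernel
theorem e2_14 : eqsAt nets 131072 17 pairs2 14 = 0 := by decide +kernel
theorem e2_15 : eqsAt nets 131072 17 pairs2 15 = 0 := by decide +kernel
theorem e2_16 : eqsAt nets 131072 17 pairs2 16 = 0 := by decide +kernel
theorem eq2 : ∀ p ∈ pairs2, (p.1.map (elN nets)).prod = (p.2.map (elN nets)).prod :=
  eqs_sound netsOK (by decide) (blocks_cons (blocks_cons (blocks_cons (blocks_cons (blocks_cons (blocks_cons (blocks_cons (blocks_cons (blocks_cons (blocks_cons (blocks_cons (blocks_cons (blocks_cons (blocks_cons (blocks_cons (blocks_cons (blocks_cons (blocks_nil _) e2_0) e2_1) e2_2) e2_3) e2_4) e2_5) e2_6) e2_7) e2_8) e2_9) e2_10) e2_11) e2_12) e2_13) e2_14) e2_15) e2_16)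
theorem e6_0 : eqsAt nets 131072 17 pairs6 0 = 0 := by decide +kernel
theorem e6_1 : eqsAt nets 131072 17 pairs6 1 = 0 := by decide +kernel
theorem e6_2 : eqsAt nets 131072 17 pairs6 2 = 0 := by decide +kernel
theorem e6_3 : eqsAt nets 131072 17 pairs6 3 = 0 := by decide +kernel
theorem e6_4 : eqsAt nets 131072 17 pairs6 4 = 0 := by decide +kernel
theorem e6_5 : eqsAt nets 131072 17 pairs6 5 = 0 := by decide +kernel
theorem e6_6 : eqsAt nets 131072 17 pairs6 6 = 0 := by decide +kernel
theorem e6_7 : eqsAt nets 131072 17 pairs6 7 = 0 := by decide +kernel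
theorem e6_8 : eqsAt nets 131072 17 pairs6 8 = 0 := by decide +kernel
theorem e6_9 : eqsAt nets 131072 17 pairs6 9 = 0 := by decide +kernel
theorem e6_10 : eqsAt nets 131072 17 pairs6 10 = 0 := by decide +kernel
theorem e6_11 : eqsAt nets 131072 17 pairs6 11 = 0 := by decide +kernel
theorem e6_12 : eqsAt nets 131072 17 pairs6 12 = 0 := by decide +kernel
theorem e6_13 : eqsAt nets 131072 17 pairs6 13 = 0 := by decide +kernel
theorem e6_14 : eqsAt nets 131072 17 pairs6 14 = 0 := by decide +kernel
theorem e6_15 : eqsAt nets 131072 17 pairs6 15 = 0 := by decide +kernel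
theorem e6_16 : eqsAt nets 131072 17 pairs6 16 = 0 := by decide +kernel
theorem eq6 : ∀ p ∈ pairs6, (p.1.map (elN nets)).prod = (p.2.map (elN nets)).prod :=
  eqs_sound netsOK (by decide) (blocks_cons (blocks_cons (blocks_cons (blocks_cons (blocks_cons (blocks_cons (blocks_cons (blocks_cons (blocks_cons (blocks_cons (blocks_cons (blocks_cons (blocks_cons (blocks_cons (blocks_cons (blocks_cons (blocks_cons (blocks_nil _) e6_0) e6_1) e6_2) e6_3) e6_4) e6_5) e6_6) e6_7) e6_8) e6_9) e6_10) e6_11) e6_12) e6_13) e6_14) e6_15) e6_16)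
theorem e10_0 : eqsAt nets 131072 17 pairs10 0 = 0 := by decide +kernel
theorem e10_1 : eqsAt nets 131072 17 pairs10 1 = 0 := by decide +kernel
theorem e10_2 : eqsAt nets 131072 17 pairs10 2 = 0 := by decide +kernel
theorem e10_3 : eqsAt nets 131072 17 pairs10 3 = 0 := by decide +kernel
theorem e10_4 : eqsAt nets 131072 17 pairs10 4 = 0 := by decide +kernel
theorem e10_5 : eqsAt nets 131072 17 pairs10 5 = 0 := by decide +kernel
theorem e10_6 : eqsAt nets 131072 17 pairs10 6 = 0 := by decide +kernel
theorem e10_7 : eqsAt nets 131072 17 pairs10 7 = 0 := by decide +kernel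
theorem e10_8 : eqsAt nets 131072 17 pairs10 8 = 0 := by decide +kernel
theorem e10_9 : eqsAt nets 131072 17 pairs10 9 = 0 := by decide +kernel
theorem e10_10 : eqsAt nets 131072 17 pairs10 10 = 0 := by decide +kernel
theorem e10_11 : eqsAt nets 131072 17 pairs10 11 = 0 := by decide +kernel
theorem e10_12 : eqsAt nets 131072 17 pairs10 12 = 0 := by decide +kernel
theorem e10_13 : eqsAt nets 131072 17 pairs10 13 = 0 := by decide +kernel
theorem e10_14 : eqsAt nets 131072 17 pairs10 14 = 0 := by decide +kernel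
theorem e10_15 : eqsAt nets 131072 17 pairs10 15 = 0 := by decide +kernel
theorem e10_16 : eqsAt nets 131072 17 pairs10 16 = 0 := by decide +kernel
theorem eq10 : ∀ p ∈ pairs10, (p.1.map (elN nets)).prod = (p.2.map (elN nets)).prod :=
  eqs_sound netsOK (by decide) (blocks_cons (blocks_cons (blocks_cons (blocks_cons (blocks_cons (blocks_cons (blocks_cons (blocks_cons (blocks_cons (blocks_cons (blocks_cons (blocks_cons (blocks_cons (blocks_cons (blocks_cons (blocks_cons (blocks_cons (blocks_nil _) e10_0) e10_1) e10_2) e10_3) e10_4) e10_5) e10_6) e10_7) e10_8) e10_9) e10_10) e10_11) e10_12) e10_13) e10_14) e10_15) e10_16)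
theorem e14_0 : eqsAt nets 131072 17 pairs14 0 = 0 := by decide +kernel
theorem e14_1 : eqsAt nets 131072 17 pairs14 1 = 0 := by decide +kernel
theorem e14_2 : eqsAt nets 131072 17 pairs14 2 = 0 := by decide +kernel
theorem e14_3 : eqsAt nets 131072 17 pairs14 3 = 0 := by decide +kernel
theorem e14_4 : eqsAt nets 131072 17 pairs14 4 = 0 := by decide +kernel
theorem e14_5 : eqsAt nets 131072 17 pairs14 5 = 0 := by decide +kernel
theorem e14_6 : eqsAt nets 131072 17 pairs14 6 = 0 := by decide +kernel
theorem e14_7 : eqsAt nets 131072 17 pairs14 7 = 0 := by decide +kernel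
theorem e14_8 : eqsAt nets 131072 17 pairs14 8 = 0 := by decide +kernel
theorem e14_9 : eqsAt nets 131072 17 pairs14 9 = 0 := by decide +kernel
theorem e14_10 : eqsAt nets 131072 17 pairs14 10 = 0 := by decide +kernel
theorem e14_11 : eqsAt nets 131072 17 pairs14 11 = 0 := by decide +kernel
theorem e14_12 : eqsAt nets 131072 17 pairs14 12 = 0 := by decide +kernel
theorem e14_13 : eqsAt nets 131072 17 pairs14 13 = 0 := by decide +kernel
theorem e14_14 : eqsAt nets 131072 17 pairs14 14 = 0 := by decide +kernel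
theorem e14_15 : eqsAt nets 131072 17 pairs14 15 = 0 := by decide +kernel
theorem e14_16 : eqsAt nets 131072 17 pairs14 16 = 0 := by decide +kernel
theorem eq14 : ∀ p ∈ pairs14, (p.1.map (elN nets)).prod = (p.2.map (elN nets)).prod :=
  eqs_sound netsOK (by decide) (blocks_cons (blocks_cons (blocks_cons (blocks_cons (blocks_cons (blocks_cons (blocks_cons (blocks_cons (blocks_cons (blocks_cons (blocks_cons (blocks_cons (blocks_cons (blocks_cons (blocks_cons (blocks_cons (blocks_cons (blocks_nil _) e14_0) e14_1) e14_2) e14_3) e14_4) e14_5) e14_6) e14_7) e14_8) e14_9) e14_10) e14_11) e14_12) e14_13) e14_14) e14_15) e14_16)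
theorem e18_0 : eqsAt nets 131072 17 pairs18 0 = 0 := by decide +kernel
theorem e18_1 : eqsAt nets 131072 17 pairs18 1 = 0 := by decide +kernel
theorem e18_2 : eqsAt nets 131072 17 pairs18 2 = 0 := by decide +kernel
theorem e18_3 : eqsAt nets 131072 17 pairs18 3 = 0 := by decide +kernel
theorem e18_4 : eqsAt nets 131072 17 pairs18 4 = 0 := by decide +kernel
theorem e18_5 : eqsAt nets 131072 17 pairs18 5 = 0 := by decide +kernel
theorem e18_6 : eqsAt nets 131072 17 pairs18 6 = 0 := by decide +kernel
theorem e18_7 : eqsAt nets 131072 17 pairs18 7 = 0 := by decide +kernel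
theorem e18_8 : eqsAt nets 131072 17 pairs18 8 = 0 := by decide +kernel
theorem e18_9 : eqsAt nets 131072 17 pairs18 9 = 0 := by decide +kernel
theorem e18_10 : eqsAt nets 131072 17 pairs18 10 = 0 := by decide +kernel
theorem e18_11 : eqsAt nets 131072 17 pairs18 11 = 0 := by decide +kernel
theorem e18_12 : eqsAt nets 131072 17 pairs18 12 = 0 := by decide +kernel
theorem e18_13 : eqsAt nets 131072 17 pairs18 13 = 0 := by decide +kernel
theorem e18_14 : eqsAt nets 131072 17 pairs18 14 = 0 := by decide +kernel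
theorem e18_15 : eqsAt nets 131072 17 pairs18 15 = 0 := by decide +kernel
theorem e18_16 : eqsAt nets 131072 17 pairs18 16 = 0 := by decide +kernel
theorem eq18 : ∀ p ∈ pairs18, (p.1.map (elN nets)).prod = (p.2.map (elN nets)).prod :=
  eqs_sound netsOK (by decide) (blocks_cons (blocks_cons (blocks_cons (blocks_cons (blocks_cons (blocks_cons (blocks_cons (blocks_cons (blocks_cons (blocks_cons (blocks_cons (blocks_cons (blocks_cons (blocks_cons (blocks_cons (blocks_cons (blocks_cons (blocks_nil _) e18_0) e18_1) e18_2) e18_3) e18_4) e18_5) e18_6) e18_7) e18_8) e18_9) e18_10) e18_11) e18_12) e18_13) e18_14) e18_15) e18_16)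
theorem e22_0 : eqsAt nets 131072 17 pairs22 0 = 0 := by decide +kernel
theorem e22_1 : eqsAt nets 131072 17 pairs22 1 = 0 := by decide +kernel
theorem e22_2 : eqsAt nets 131072 17 pairs22 2 = 0 := by decide +kernel
theorem e22_3 : eqsAt nets 131072 17 pairs22 3 = 0 := by decide +kernel
theorem e22_4 : eqsAt nets 131072 17 pairs22 4 = 0 := by decide +kernel
theorem e22_5 : eqsAt nets 131072 17 pairs22 5 = 0 := by decide +kernel
theorem e22_6 : eqsAt nets 131072 17 pairs22 6 = 0 := by decide +kernel
theorem e22_7 : eqsAt nets 131072 17 pairs22 7 = 0 := by decide +kernel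
theorem e22_8 : eqsAt nets 131072 17 pairs22 8 = 0 := by decide +kernel
theorem e22_9 : eqsAt nets 131072 17 pairs22 9 = 0 := by decide +kernel
theorem e22_10 : eqsAt nets 131072 17 pairs22 10 = 0 := by decide +kernel
theorem e22_11 : eqsAt nets 131072 17 pairs22 11 = 0 := by decide +kernel
theorem e22_12 : eqsAt nets 131072 17 pairs22 12 = 0 := by decide +kernel
theorem e22_13 : eqsAt nets 131072 17 pairs22 13 = 0 := by decide +kernel
theorem e22_14 : eqsAt nets 131072 17 pairs22 14 = 0 := by decide +kernel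
theorem e22_15 : eqsAt nets 131072 17 pairs22 15 = 0 := by decide +kernel
theorem e22_16 : eqsAt nets 131072 17 pairs22 16 = 0 := by decide +kernel
theorem eq22 : ∀ p ∈ pairs22, (p.1.map (elN nets)).prod = (p.2.map (elN nets)).prod :=
  eqs_sound netsOK (by decide) (blocks_cons (blocks_cons (blocks_cons (blocks_cons (blocks_cons (blocks_cons (blocks_cons (blocks_cons (blocks_cons (blocks_cons (blocks_cons (blocks_cons (blocks_cons (blocks_cons (blocks_cons (blocks_cons (blocks_cons (blocks_nil _) e22_0) e22_1) e22_2) e22_3) e22_4) e22_5) e22_6) e22_7) e22_8) e22_9) e22_10) e22_11) e22_12) e22_13) e22_14) e22_15) e22_16)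

end Cfsg.Agent.AN.LM0
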