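import Cfsg.Agent.AN.Mod.LM0D

set_option autoImplicit false
set_option Elab.async false
set_option maxRecDepth 100000
set_option exponentiation.threshold 400000

namespace Cfsg.Agent.AN.LM0

open Cfsg.Agent.H58

theorem e3_0 : eqsAt nets 131072 17 pairs3 0 = 0 := by decide +kernel
theorem e3_1 : eqsAt nets 131072 17 pairs3 1 = 0 := by decide +kernel
theorem e3_2 : eqsAt nets 131072 17 pairs3 2 = 0 := by decide +kernel
theorem e3_3 : eqsAt nets 131072 17 pairs3 3 = 0 := by decide +kernel
theorem e3_4 : eqsAt nets 131072 17 pairs3 4 = 0 := by decide +kernel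
theorem e3_5 : eqsAt nets 131072 17 pairs3 5 = 0 := by decide +kernel
theorem e3_6 : eqsAt nets 131072 17 pairs3 6 = 0 := by decide +kernel
theorem e3_7 : eqsAt nets 131072 17 pairs3 7 = 0 := by decide +kernel
theorem e3_8 : eqsAt nets 131072 17 pairs3 8 = 0 := by decide +kernel
theorem e3_9 : eqsAt nets 131072 17 pairs3 9 = 0 := by decide +kernel
theorem e3_10 : eqsAt nets 131072 17 pairs3 10 = 0 := by decide +kernel
theorem e3_11 : eqsAt nets 131072 17 pairs3 11 = 0 := by decide +kernel
theorem e3_12 : eqsAt nets 131072 17 pairs3 12 = 0 := by decide +kernel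
theorem e3_13 : eqsAt nets 131072 17 pairs3 13 = 0 := by decide +kernel
theorem e3_14 : eqsAt nets 131072 17 pairs3 14 = 0 := by decide +kernel
theorem e3_15 : eqsAt nets 131072 17 pairs3 15 = 0 := by decide +kernel
theorem e3_16 : eqsAt nets 131072 17 pairs3 16 = 0 := by decide +kernel
theorem eq3 : ∀ p ∈ pairs3, (p.1.map (elN nets)).prod = (p.2.map (elN nets)).prod :=
  eqs_sound netsOK (by decide) (blocks_cons (blocks_cons (blocks_cons (blocks_cons (blocks_cons (blocks_cons (blocks_cons (blocks_cons (blocks_cons (blocks_cons (blocks_cons (blocks_cons (blocks_cons (blocks_cons (blocks_cons (blocks_cons (blocks_cons (blocks_nil _) e3_0) e3_1) e3_2) e3_3) e3_4) e3_5) e3_6) e3_7) e3_8) e3_9) e3_10) e3_11) e3_12) e3_13) e3_14) e3_15) e3_16)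
theorem e7_0 : eqsAt nets 131072 17 pairs7 0 = 0 := by decide +kernel
theorem e7_1 : eqsAt nets 131072 17 pairs7 1 = 0 := by decide +kernel
theorem e7_2 : eqsAt nets 131072 17 pairs7 2 = 0 := by decide +kernel
theorem e7_3 : eqsAt nets 131072 17 pairs7 3 = 0 := by decide +kernel
theorem e7_4 : eqsAt nets 131072 17 pairs7 4 = 0 := by decide +kernel
theorem e7_5 : eqsAt nets 131072 17 pairs7 5 = 0 := by decide +kernel
theorem e7_6 : eqsAt nets 131072 17 pairs7 6 = 0 := by decide +kernel
theorem e7_7 : eqsAt nets 131072 17 pairs7 7 = 0 := by decide +kernel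
theorem e7_8 : eqsAt nets 131072 17 pairs7 8 = 0 := by decide +kernel
theorem e7_9 : eqsAt nets 131072 17 pairs7 9 = 0 := by decide +kernel
theorem e7_10 : eqsAt nets 131072 17 pairs7 10 = 0 := by decide +kernel
theorem e7_11 : eqsAt nets 131072 17 pairs7 11 = 0 := by decide +kernel
theorem e7_12 : eqsAt nets 131072 17 pairs7 12 = 0 := by decide +kernel
theorem e7_13 : eqsAt nets 131072 17 pairs7 13 = 0 := by decide +kernel
theorem e7_14 : eqsAt nets 131072 17 pairs7 14 = 0 := by decide +kernel
theorem e7_15 : eqsAt nets 131072 17 pairs7 15 = 0 := by decide +kernel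
theorem e7_16 : eqsAt nets 131072 17 pairs7 16 = 0 := by decide +kernel
theorem eq7 : ∀ p ∈ pairs7, (p.1.map (elN nets)).prod = (p.2.map (elN nets)).prod :=
  eqs_sound netsOK (by decide) (blocks_cons (blocks_cons (blocks_cons (blocks_cons (blocks_cons (blocks_cons (blocks_cons (blocks_cons (blocks_cons (blocks_cons (blocks_cons (blocks_cons (blocks_cons (blocks_cons (blocks_cons (blocks_cons (blocks_cons (blocks_nil _) e7_0) e7_1) e7_2) e7_3) e7_4) e7_5) e7_6) e7_7) e7_8) e7_9) e7_10) e7_11) e7_12) e7_13) e7_14) e7_15) e7_16)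
theorem e11_0 : eqsAt nets 131072 17 pairs11 0 = 0 := by decide +kernel
theorem e11_1 : eqsAt nets 131072 17 pairs11 1 = 0 := by decide +kernel
theorem e11_2 : eqsAt nets 131072 17 pairs11 2 = 0 := by decide +kernel
theorem e11_3 : eqsAt nets 131072 17 pairs11 3 = 0 := by decide +kernel
theorem e11_4 : eqsAt nets 131072 17 pairs11 4 = 0 := by decide +kernel
theorem e11_5 : eqsAt nets 131072 17 pairs11 5 = 0 := by decide +kernel
theorem e11_6 : eqsAt nets 131072 17 pairs11 6 = 0 := by decide +kernel
theorem e11_7 : eqsAt nets 131072 17 pairs11 7 = 0 := by decide +kernel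
theorem e11_8 : eqsAt nets 131072 17 pairs11 8 = 0 := by decide +kernel
theorem e11_9 : eqsAt nets 131072 17 pairs11 9 = 0 := by decide +kernel
theorem e11_10 : eqsAt nets 131072 17 pairs11 10 = 0 := by decide +kernel
theorem e11_11 : eqsAt nets 131072 17 pairs11 11 = 0 := by decide +kernel
theorem e11_12 : eqsAt nets 131072 17 pairs11 12 = 0 := by decide +kernel
theorem e11_13 : eqsAt nets 131072 17 pairs11 13 = 0 := by decide +kernel
theorem e11_14 : eqsAt nets 131072 17 pairs11 14 = 0 := by decide +kernel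
theorem e11_15 : eqsAt nets 131072 17 pairs11 15 = 0 := by decide +kernel
theorem e11_16 : eqsAt nets 131072 17 pairs11 16 = 0 := by decide +kernel
theorem eq11 : ∀ p ∈ pairs11, (p.1.map (elN nets)).prod = (p.2.map (elN nets)).prod :=
  eqs_sound netsOK (by decide) (blocks_cons (blocks_cons (blocks_cons (blocks_cons (blocks_cons (blocks_cons (blocks_cons (blocks_cons (blocks_cons (blocks_cons (blocks_cons (blocks_cons (blocks_cons (blocks_cons (blocks_cons (blocks_cons (blocks_cons (blocks_nil _) e11_0) e11_1) e11_2) e11_3) e11_4) e11_5) e11_6) e11_7) e11_8) e11_9) e11_10) e11_11) e11_12) e11_13) e11_14) e11_15) e11_16)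
theorem e15_0 : eqsAt nets 131072 17 pairs15 0 = 0 := by decide +kernel
theorem e15_1 : eqsAt nets 131072 17 pairs15 1 = 0 := by decide +kernel
theorem e15_2 : eqsAt nets 131072 17 pairs15 2 = 0 := by decide +kernel
theorem e15_3 : eqsAt nets 131072 17 pairs15 3 = 0 := by decide +kernel
theorem e15_4 : eqsAt nets 131072 17 pairs15 4 = 0 := by decide +kernel
theorem e15_5 : eqsAt nets 131072 17 pairs15 5 = 0 := by decide +kernel
theorem e15_6 : eqsAt nets 131072 17 pairs15 6 = 0 := by decide +kernel
theorem e15_7 : eqsAt nets 131072 17 pairs15 7 = 0 := by decide +kernel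
theorem e15_8 : eqsAt nets 131072 17 pairs15 8 = 0 := by decide +kernel
theorem e15_9 : eqsAt nets 131072 17 pairs15 9 = 0 := by decide +kernel
theorem e15_10 : eqsAt nets 131072 17 pairs15 10 = 0 := by decide +kernel
theorem e15_11 : eqsAt nets 131072 17 pairs15 11 = 0 := by decide +kernel
theorem e15_12 : eqsAt nets 131072 17 pairs15 12 = 0 := by decide +kernel
theorem e15_13 : eqsAt nets 131072 17 pairs15 13 = 0 := by decide +kernel
theorem e15_14 : eqsAt nets 131072 17 pairs15 14 = 0 := by decide +kernel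
theorem e15_15 : eqsAt nets 131072 17 pairs15 15 = 0 := by decide +kernel
theorem e15_16 : eqsAt nets 131072 17 pairs15 16 = 0 := by decide +kernel
theorem eq15 : ∀ p ∈ pairs15, (p.1.map (elN nets)).prod = (p.2.map (elN nets)).prod :=
  eqs_sound netsOK (by decide) (blocks_cons (blocks_cons (blocks_cons (blocks_cons (blocks_cons (blocks_cons (blocks_cons (blocks_cons (blocks_cons (blocks_cons (blocks_cons (blocks_cons (blocks_cons (blocks_cons (blocks_cons (blocks_cons (blocks_cons (blocks_nil _) e15_0) e15_1) e15_2) e15_3) e15_4) e15_5) e15_6) e15_7) e15_8) e15_9) e15_10) e15_11) e15_12) e15_13) e15_14) e15_15) e15_16)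
theorem e19_0 : eqsAt nets 131072 17 pairs19 0 = 0 := by decide +kernel
theorem e19_1 : eqsAt nets 131072 17 pairs19 1 = 0 := by decide +kernel
theorem e19_2 : eqsAt nets 131072 17 pairs19 2 = 0 := by decide +kernel
theorem e19_3 : eqsAt nets 131072 17 pairs19 3 = 0 := by decide +kernel
theorem e19_4 : eqsAt nets 131072 17 pairs19 4 = 0 := by decide +kernel
theorem e19_5 : eqsAt nets 131072 17 pairs19 5 = 0 := by decide +kernel
theorem e19_6 : eqsAt nets 131072 17 pairs19 6 = 0 := by decide +kernel
theorem e19_7 : eqsAt nets 131072 17 pairs19 7 = 0 := by decide +kernel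
theorem e19_8 : eqsAt nets 131072 17 pairs19 8 = 0 := by decide +kernel
theorem e19_9 : eqsAt nets 131072 17 pairs19 9 = 0 := by decide +kernel
theorem e19_10 : eqsAt nets 131072 17 pairs19 10 = 0 := by decide +kernel
theorem e19_11 : eqsAt nets 131072 17 pairs19 11 = 0 := by decide +kernel
theorem e19_12 : eqsAt nets 131072 17 pairs19 12 = 0 := by decide +kernel
theorem e19_13 : eqsAt nets 131072 17 pairs19 13 = 0 := by decide +kernel
theorem e19_14 : eqsAt nets 131072 17 pairs19 14 = 0 := by decide +kernel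
theorem e19_15 : eqsAt nets 131072 17 pairs19 15 = 0 := by decide +kernel
theorem e19_16 : eqsAt nets 131072 17 pairs19 16 = 0 := by decide +kernel
theorem eq19 : ∀ p ∈ pairs19, (p.1.map (elN nets)).prod = (p.2.map (elN nets)).prod :=
  eqs_sound netsOK (by decide) (blocks_cons (blocks_cons (blocks_cons (blocks_cons (blocks_cons (blocks_cons (blocks_cons (blocks_cons (blocks_cons (blocks_cons (blocks_cons (blocks_cons (blocks_cons (blocks_cons (blocks_cons (blocks_cons (blocks_cons (blocks_nil _) e19_0) e19_1) e19_2) e19_3) e19_4) e19_5) e19_6) e19_7) e19_8) e19_9) e19_10) e19_11) e19_12) e19_13) e19_14) e19_15) e19_16)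
theorem e23_0 : eqsAt nets 131072 17 pairs23 0 = 0 := by decide +kernel
theorem e23_1 : eqsAt nets 131072 17 pairs23 1 = 0 := by decide +kernel
theorem e23_2 : eqsAt nets 131072 17 pairs23 2 = 0 := by decide +kernel
theorem e23_3 : eqsAt nets 131072 17 pairs23 3 = 0 := by decide +kernel
theorem e23_4 : eqsAt nets 131072 17 pairs23 4 = 0 := by decide +kernel
theorem e23_5 : eqsAt nets 131072 17 pairs23 5 = 0 := by decide +kernel
theorem e23_6 : eqsAt nets 131072 17 pairs23 6 = 0 := by decide +kernel
theorem e23_7 : eqsAt nets 131072 17 pairs23 7 = 0 := by decide +kernel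
theorem e23_8 : eqsAt nets 131072 17 pairs23 8 = 0 := by decide +kernel
theorem e23_9 : eqsAt nets 131072 17 pairs23 9 = 0 := by decide +kernel
theorem e23_10 : eqsAt nets 131072 17 pairs23 10 = 0 := by decide +kernel
theorem e23_11 : eqsAt nets 131072 17 pairs23 11 = 0 := by decide +kernel
theorem e23_12 : eqsAt nets 131072 17 pairs23 12 = 0 := by decide +kernel
theorem e23_13 : eqsAt nets 131072 17 pairs23 13 = 0 := by decide +kernel
theorem e23_14 : eqsAt nets 131072 17 pairs23 14 = 0 := by decide +kernel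
theorem e23_15 : eqsAt nets 131072 17 pairs23 15 = 0 := by decide +kernel
theorem e23_16 : eqsAt nets 131072 17 pairs23 16 = 0 := by decide +kernel
theorem eq23 : ∀ p ∈ pairs23, (p.1.map (elN nets)).prod = (p.2.map (elN nets)).prod :=
  eqs_sound netsOK (by decide) (blocks_cons (blocks_cons (blocks_cons (blocks_cons (blocks_cons (blocks_cons (blocks_cons (blocks_cons (blocks_cons (blocks_cons (blocks_cons (blocks_cons (blocks_cons (blocks_cons (blocks_cons (blocks_cons (blocks_cons (blocks_nil _) e23_0) e23_1) e23_2) e23_3) e23_4) e23_5) e23_6) e23_7) e23_8) e23_9) e23_10) e23_11) e23_12) e23_13) e23_14) e23_15) e23_16)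

end Cfsg.Agent.AN.LM0
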