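import Cfsg.Agent.AN.Mod.LM0D

set_option autoImplicit false
set_option Elab.async false
set_option maxRecDepth 100000
set_option exponentiation.threshold 400000

namespace Cfsg.Agent.AN.LM0

open Cfsg.Agent.H58

theorem e0_0 : eqsAt nets 131072 17 pairs0 0 = 0 := by decide +kernel
theorem e0_1 : eqsAt nets 131072 17 pairs0 1 = 0 := by decide +kernel
theorem e0_2 : eqsAt nets 131072 17 pairs0 2 = 0 := by decide +kernel
theorem e0_3 : eqsAt nets 131072 17 pairs0 3 = 0 := by decide +kernel
theorem e0_4 : eqsAt nets 131072 17 pairs0 4 = 0 := by decide +kernel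
theorem e0_5 : eqsAt nets 131072 17 pairs0 5 = 0 := by decide +kernel
theorem e0_6 : eqsAt nets 131072 17 pairs0 6 = 0 := by decide +kernel
theorem e0_7 : eqsAt nets 131072 17 pairs0 7 = 0 := by decide +kernel
theorem e0_8 : eqsAt nets 131072 17 pairs0 8 = 0 := by decide +kernel
theorem e0_9 : eqsAt nets 131072 17 pairs0 9 = 0 := by decide +kernel
theorem e0_10 : eqsAt nets 131072 17 pairs0 10 = 0 := by decide +kernel
theorem e0_11 : eqsAt nets 131072 17 pairs0 11 = 0 := by decide +kernel
theorem e0_12 : eqsAt nets 131072 17 pairs0 12 = 0 := by decide +kernel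
theorem e0_13 : eqsAt nets 131072 17 pairs0 13 = 0 := by decide +kernel
theorem e0_14 : eqsAt nets 131072 17 pairs0 14 = 0 := by decide +kernel
theorem e0_15 : eqsAt nets 131072 17 pairs0 15 = 0 := by decide +kernel
theorem e0_16 : eqsAt nets 131072 17 pairs0 16 = 0 := by decide +kernel
theorem eq0 : ∀ p ∈ pairs0, (p.1.map (elN nets)).prod = (p.2.map (elN nets)).prod :=
  eqs_sound netsOK (by decide) (blocks_cons (blocks_cons (blocks_cons (blocks_cons (blocks_cons (blocks_cons (blocks_cons (blocks_cons (blocks_cons (blocks_cons (blocks_cons (blocks_cons (blocks_cons (blocks_cons (blocks_cons (blocks_cons (blocks_cons (blocks_nil _) e0_0) e0_1) e0_2) e0_3) e0_4) e0_5) e0_6) e0_7) e0_8) e0_9) e0_10) e0_11) e0_12) e0_13) e0_14) e0_15) e0_16)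
theorem e4_0 : eqsAt nets 131072 17 pairs4 0 = 0 := by decide +kernel
theorem e4_1 : eqsAt nets 131072 17 pairs4 1 = 0 := by decide +kernel
theorem e4_2 : eqsAt nets 131072 17 pairs4 2 = 0 := by decide +kernel
theorem e4_3 : eqsAt nets 131072 17 pairs4 3 = 0 := by decide +kernel
theorem e4_4 : eqsAt nets 131072 17 pairs4 4 = 0 := by decide +kernel
theorem e4_5 : eqsAt nets 131072 17 pairs4 5 = 0 := by decide +kernel
theorem e4_6 : eqsAt nets 131072 17 pairs4 6 = 0 := by decide +kernel
theorem e4_7 : eqsAt nets 131072 17 pairs4 7 = 0 := by decide +kernel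
theorem e4_8 : eqsAt nets 131072 17 pairs4 8 = 0 := by decide +kernel
theorem e4_9 : eqsAt nets 131072 17 pairs4 9 = 0 := by decide +kernel
theorem e4_10 : eqsAt nets 131072 17 pairs4 10 = 0 := by decide +kernel
theorem e4_11 : eqsAt nets 131072 17 pairs4 11 = 0 := by decide +kernel
theorem e4_12 : eqsAt nets 131072 17 pairs4 12 = 0 := by decide +kernel
theorem e4_13 : eqsAt nets 131072 17 pairs4 13 = 0 := by decide +kernel
theorem e4_14 : eqsAt nets 131072 17 pairs4 14 = 0 := by decide +kernel
theorem e4_15 : eqsAt nets 131072 17 pairs4 15 = 0 := by decide +kernel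
theorem e4_16 : eqsAt nets 131072 17 pairs4 16 = 0 := by decide +kernel
theorem eq4 : ∀ p ∈ pairs4, (p.1.map (elN nets)).prod = (p.2.map (elN nets)).prod :=
  eqs_sound netsOK (by decide) (blocks_cons (blocks_cons (blocks_cons (blocks_cons (blocks_cons (blocks_cons (blocks_cons (blocks_cons (blocks_cons (blocks_cons (blocks_cons (blocks_cons (blocks_cons (blocks_cons (blocks_cons (blocks_cons (blocks_cons (blocks_nil _) e4_0) e4_1) e4_2) e4_3) e4_4) e4_5) e4_6) e4_7) e4_8) e4_9) e4_10) e4_11) e4_12) e4_13) e4_14) e4_15) e4_16)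
theorem e8_0 : eqsAt nets 131072 17 pairs8 0 = 0 := by decide +kernel
theorem e8_1 : eqsAt nets 131072 17 pairs8 1 = 0 := by decide +kernel
theorem e8_2 : eqsAt nets 131072 17 pairs8 2 = 0 := by decide +kernel
theorem e8_3 : eqsAt nets 131072 17 pairs8 3 = 0 := by decide +kernel
theorem e8_4 : eqsAt nets 131072 17 pairs8 4 = 0 := by decide +kernel
theorem e8_5 : eqsAt nets 131072 17 pairs8 5 = 0 := by decide +kernel
theorem e8_6 : eqsAt nets 131072 17 pairs8 6 = 0 := by decide +kernel
theorem e8_7 : eqsAt nets 131072 17 pairs8 7 = 0 := by decide +kernel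
theorem e8_8 : eqsAt nets 131072 17 pairs8 8 = 0 := by decide +kernel
theorem e8_9 : eqsAt nets 131072 17 pairs8 9 = 0 := by decide +kernel
theorem e8_10 : eqsAt nets 131072 17 pairs8 10 = 0 := by decide +kernel
theorem e8_11 : eqsAt nets 131072 17 pairs8 11 = 0 := by decide +kernel
theorem e8_12 : eqsAt nets 131072 17 pairs8 12 = 0 := by decide +kernel
theorem e8_13 : eqsAt nets 131072 17 pairs8 13 = 0 := by decide +kernel
theorem e8_14 : eqsAt nets 131072 17 pairs8 14 = 0 := by decide +kernel
theorem e8_15 : eqsAt nets 131072 17 pairs8 15 = 0 := by decide +kernel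
theorem e8_16 : eqsAt nets 131072 17 pairs8 16 = 0 := by decide +kernel
theorem eq8 : ∀ p ∈ pairs8, (p.1.map (elN nets)).prod = (p.2.map (elN nets)).prod :=
  eqs_sound netsOK (by decide) (blocks_cons (blocks_cons (blocks_cons (blocks_cons (blocks_cons (blocks_cons (blocks_cons (blocks_cons (blocks_cons (blocks_cons (blocks_cons (blocks_cons (blocks_cons (blocks_cons (blocks_cons (blocks_cons (blocks_cons (blocks_nil _) e8_0) e8_1) e8_2) e8_3) e8_4) e8_5) e8_6) e8_7) e8_8) e8_9) e8_10) e8_11) e8_12) e8_13) e8_14) e8_15) e8_16)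
theorem e12_0 : eqsAt nets 131072 17 pairs12 0 = 0 := by decide +kernel
theorem e12_1 : eqsAt nets 131072 17 pairs12 1 = 0 := by decide +kernel
theorem e12_2 : eqsAt nets 131072 17 pairs12 2 = 0 := by decide +kernel
theorem e12_3 : eqsAt nets 131072 17 pairs12 3 = 0 := by decide +kernel
theorem e12_4 : eqsAt nets 131072 17 pairs12 4 = 0 := by decide +kernel
theorem e12_5 : eqsAt nets 131072 17 pairs12 5 = 0 := by decide +kernel
theorem e12_6 : eqsAt nets 131072 17 pairs12 6 = 0 := by decide +kernel
theorem e12_7 : eqsAt nets 131072 17 pairs12 7 = 0 := by decide +kernel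
theorem e12_8 : eqsAt nets 131072 17 pairs12 8 = 0 := by decide +kernel
theorem e12_9 : eqsAt nets 131072 17 pairs12 9 = 0 := by decide +kernel
theorem e12_10 : eqsAt nets 131072 17 pairs12 10 = 0 := by decide +kernel
theorem e12_11 : eqsAt nets 131072 17 pairs12 11 = 0 := by decide +kernel
theorem e12_12 : eqsAt nets 131072 17 pairs12 12 = 0 := by decide +kernel
theorem e12_13 : eqsAt nets 131072 17 pairs12 13 = 0 := by decide +kernel
theorem e12_14 : eqsAt nets 131072 17 pairs12 14 = 0 := by decide +kernel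
theorem e12_15 : eqsAt nets 131072 17 pairs12 15 = 0 := by decide +kernel
theorem e12_16 : eqsAt nets 131072 17 pairs12 16 = 0 := by decide +kernel
theorem eq12 : ∀ p ∈ pairs12, (p.1.map (elN nets)).prod = (p.2.map (elN nets)).prod :=
  eqs_sound netsOK (by decide) (blocks_cons (blocks_cons (blocks_cons (blocks_cons (blocks_cons (blocks_cons (blocks_cons (blocks_cons (blocks_cons (blocks_cons (blocks_cons (blocks_cons (blocks_cons (blocks_cons (blocks_cons (blocks_cons (blocks_cons (blocks_nil _) e12_0) e12_1) e12_2) e12_3) e12_4) e12_5) e12_6) e12_7) e12_8) e12_9) e12_10) e12_11) e12_12) e12_13) e12_14) e12_15) e12_16)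
theorem e16_0 : eqsAt nets 131072 17 pairs16 0 = 0 := by decide +kernel
theorem e16_1 : eqsAt nets 131072 17 pairs16 1 = 0 := by decide +kernel
theorem e16_2 : eqsAt nets 131072 17 pairs16 2 = 0 := by decide +kernel
theorem e16_3 : eqsAt nets 131072 17 pairs16 3 = 0 := by decide +kernel
theorem e16_4 : eqsAt nets 131072 17 pairs16 4 = 0 := by decide +kernel
theorem e16_5 : eqsAt nets 131072 17 pairs16 5 = 0 := by decide +kernel
theorem e16_6 : eqsAt nets 131072 17 pairs16 6 = 0 := by decide +kernel
theorem e16_7 : eqsAt nets 131072 17 pairs16 7 = 0 := by decide +kernel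
theorem e16_8 : eqsAt nets 131072 17 pairs16 8 = 0 := by decide +kernel
theorem e16_9 : eqsAt nets 131072 17 pairs16 9 = 0 := by decide +kernel
theorem e16_10 : eqsAt nets 131072 17 pairs16 10 = 0 := by decide +kernel
theorem e16_11 : eqsAt nets 131072 17 pairs16 11 = 0 := by decide +kernel
theorem e16_12 : eqsAt nets 131072 17 pairs16 12 = 0 := by decide +kernel
theorem e16_13 : eqsAt nets 131072 17 pairs16 13 = 0 := by decide +kernel
theorem e16_14 : eqsAt nets 131072 17 pairs16 14 = 0 := by decide +kernel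
theorem e16_15 : eqsAt nets 131072 17 pairs16 15 = 0 := by decide +kernel
theorem e16_16 : eqsAt nets 131072 17 pairs16 16 = 0 := by decide +kernel
theorem eq16 : ∀ p ∈ pairs16, (p.1.map (elN nets)).prod = (p.2.map (elN nets)).prod :=
  eqs_sound netsOK (by decide) (blocks_cons (blocks_cons (blocks_cons (blocks_cons (blocks_cons (blocks_cons (blocks_cons (blocks_cons (blocks_cons (blocks_cons (blocks_cons (blocks_cons (blocks_cons (blocks_cons (blocks_cons (blocks_cons (blocks_cons (blocks_nil _) e16_0) e16_1) e16_2) e16_3) e16_4) e16_5) e16_6) e16_7) e16_8) e16_9) e16_10) e16_11) e16_12) e16_13) e16_14) e16_15) e16_16)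
theorem e20_0 : eqsAt nets 131072 17 pairs20 0 = 0 := by decide +kernel
theorem e20_1 : eqsAt nets 131072 17 pairs20 1 = 0 := by decide +kernel
theorem e20_2 : eqsAt nets 131072 17 pairs20 2 = 0 := by decide +kernel
theorem e20_3 : eqsAt nets 131072 17 pairs20 3 = 0 := by decide +kernel
theorem e20_4 : eqsAt nets 131072 17 pairs20 4 = 0 := by decide +kernel
theorem e20_5 : eqsAt nets 131072 17 pairs20 5 = 0 := by decide +kernel
theorem e20_6 : eqsAt nets 131072 17 pairs20 6 = 0 := by decide +kernel
theorem e20_7 : eqsAt nets 131072 17 pairs20 7 = 0 := by decide +kernel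
theorem e20_8 : eqsAt nets 131072 17 pairs20 8 = 0 := by decide +kernel
theorem e20_9 : eqsAt nets 131072 17 pairs20 9 = 0 := by decide +kernel
theorem e20_10 : eqsAt nets 131072 17 pairs20 10 = 0 := by decide +kernel
theorem e20_11 : eqsAt nets 131072 17 pairs20 11 = 0 := by decide +kernel
theorem e20_12 : eqsAt nets 131072 17 pairs20 12 = 0 := by decide +kernel
theorem e20_13 : eqsAt nets 131072 17 pairs20 13 = 0 := by decide +kernel
theorem e20_14 : eqsAt nets 131072 17 pairs20 14 = 0 := by decide +kernel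
theorem e20_15 : eqsAt nets 131072 17 pairs20 15 = 0 := by decide +kernel
theorem e20_16 : eqsAt nets 131072 17 pairs20 16 = 0 := by decide +kernel
theorem eq20 : ∀ p ∈ pairs20, (p.1.map (elN nets)).prod = (p.2.map (elN nets)).prod :=
  eqs_sound netsOK (by decide) (blocks_cons (blocks_cons (blocks_cons (blocks_cons (blocks_cons (blocks_cons (blocks_cons (blocks_cons (blocks_cons (blocks_cons (blocks_cons (blocks_cons (blocks_cons (blocks_cons (blocks_cons (blocks_cons (blocks_cons (blocks_nil _) e20_0) e20_1) e20_2) e20_3) e20_4) e20_5) e20_6) e20_7) e20_8) e20_9) e20_10) e20_11) e20_12) e20_13) e20_14) e20_15) e20_16)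
theorem e24_0 : eqsAt nets 131072 17 pairs24 0 = 0 := by decide +kernel
theorem e24_1 : eqsAt nets 131072 17 pairs24 1 = 0 := by decide +kernel
theorem e24_2 : eqsAt nets 131072 17 pairs24 2 = 0 := by decide +kernel
theorem e24_3 : eqsAt nets 131072 17 pairs24 3 = 0 := by decide +kernel
theorem e24_4 : eqsAt nets 131072 17 pairs24 4 = 0 := by decide +kernel
theorem e24_5 : eqsAt nets 131072 17 pairs24 5 = 0 := by decide +kernel
theorem e24_6 : eqsAt nets 131072 17 pairs24 6 = 0 := by decide +kernel
theorem e24_7 : eqsAt nets 131072 17 pairs24 7 = 0 := by decide +kernel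
theorem e24_8 : eqsAt nets 131072 17 pairs24 8 = 0 := by decide +kernel
theorem e24_9 : eqsAt nets 131072 17 pairs24 9 = 0 := by decide +kernel
theorem e24_10 : eqsAt nets 131072 17 pairs24 10 = 0 := by decide +kernel
theorem e24_11 : eqsAt nets 131072 17 pairs24 11 = 0 := by decide +kernel
theorem e24_12 : eqsAt nets 131072 17 pairs24 12 = 0 := by decide +kernel
theorem e24_13 : eqsAt nets 131072 17 pairs24 13 = 0 := by decide +kernel
theorem e24_14 : eqsAt nets 131072 17 pairs24 14 = 0 := by decide +kernel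
theorem e24_15 : eqsAt nets 131072 17 pairs24 15 = 0 := by decide +kernel
theorem e24_16 : eqsAt nets 131072 17 pairs24 16 = 0 := by decide +kernel
theorem eq24 : ∀ p ∈ pairs24, (p.1.map (elN nets)).prod = (p.2.map (elN nets)).prod :=
  eqs_sound netsOK (by decide) (blocks_cons (blocks_cons (blocks_cons (blocks_cons (blocks_cons (blocks_cons (blocks_cons (blocks_cons (blocks_cons (blocks_cons (blocks_cons (blocks_cons (blocks_cons (blocks_cons (blocks_cons (blocks_cons (blocks_cons (blocks_nil _) e24_0) e24_1) e24_2) e24_3) e24_4) e24_5) e24_6) e24_7) e24_8) e24_9) e24_10) e24_11) e24_12) e24_13) e24_14) e24_15) e24_16)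

end Cfsg.Agent.AN.LM0
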